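import Groth.Agent.CdLefLib.Engine

/-!
# Vanishing of classes on the complement from the Lefschetz condition
-/

set_option autoImplicit false
set_option linter.style.haveILetI false
set_option linter.unusedSectionVars false
set_option maxHeartbeats 1000000
set_option synthInstance.maxHeartbeats 200000
set_option backward.isDefEq.respectTransparency false
set_option backward.isDefEq.respectTransparency.types false

universe u

open CategoryTheory CategoryTheory.Limits AlgebraicGeometry DerivedCategory Abelian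
open Groth.Agent

attribute [local instance] HasDerivedCategory.standard

noncomputable section

namespace CdLefLib

variable {k : Type u} [Field k] {X : Scheme.{u}} [X.Over (Spec (CommRingCat.of k))]
  [IsProper (X ↘ Spec (CommRingCat.of k))] {𝓘 : X.IdealSheafData} {U : X.Opens}

/-- Restricting the inclusion of the Deligne system to the complement gives an isomorphism. -/
theorem isIso_restrict_deligneι (hU : (U : Set X) = (𝓘.support : Set X)ᶜ) (N : X.Modules) (b : ℕ) :
    IsIso ((DCoh.restrictD U.ι).map (DerivedCategory.Q.map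
      (Dual3.deligneι 𝓘 b ((HomologicalComplex.single X.Modules (ComplexShape.up ℤ) 0).obj N)))) := by
  let R := Scheme.Modules.restrictFunctor U.ι
  let C := (HomologicalComplex.single X.Modules (ComplexShape.up ℤ) 0).obj N
  have hiso : ∀ M : X.Modules, IsIso (R.map (Dual3.idealMulι (𝓘 ^ b) M)) := fun M =>
    CohExtLib.isIso_restrict_idealMulι (𝓘 ^ b) M (U := U) fun x hx =>
      CohExtLib.notMem_support_pow b fun h => (hU.le hx : x ∈ (𝓘.support : Set X)ᶜ) h
  haveI : ∀ q, IsIso (((R.mapHomologicalComplex (ComplexShape.up ℤ)).map (Dual3.deligneι 𝓘 b C)).f q) :=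
    fun q => hiso (C.X q)
  haveI : IsIso ((R.mapHomologicalComplex (ComplexShape.up ℤ)).map (Dual3.deligneι 𝓘 b C)) :=
    HomologicalComplex.Hom.isIso_of_components _
  exact (NatIso.isIso_map_iff R.mapDerivedCategoryFactors (Dual3.deligneι 𝓘 b C)).2
    (inferInstanceAs (IsIso (DerivedCategory.Q.map
      ((R.mapHomologicalComplex (ComplexShape.up ℤ)).map (Dual3.deligneι 𝓘 b C)))))

/-- No maps on the complement, in degrees `n - 1` and `n`, out of a twist without `H¹`. -/
theorem subsingleton_hom (n : ℕ) (ω : X.Modules) (hω : Coh.IsCoh ω)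
    (t : (Dual3Lib.uO X ⟶ (DCoh.inD X ω)⟦(n : ℤ)⟧) →ₗ[k] k)
    (hbij : ∀ G : X.Modules, Coh.IsQCoh G → ∀ (j m : ℤ) (h : j + m = (n : ℤ)),
      Function.Bijective (FieldDualLib.pairing t G j m h))
    (hU : (U : Set X) = (𝓘.support : Set X)ᶜ) {C A : X.Modules} (hC : PicF.IsInvertible C)
    (hA : PicF.IsInvertible A) (vC : CohB1.tensorMod C A ≅ Coh.structureModule X)
    (hlef : Lef.HomToFormalBijective 𝓘 A)
    (h1 : Subsingleton (Coh.HH X ((CurvLib.tensorLeft' C).obj (Coh.structureModule X)) 1))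
    (i : ℕ) (hi : n ≤ i + 1) (hin : i ≤ n) :
    Subsingleton ((DCoh.restrictD U.ι).obj (DCoh.inD X ((CurvLib.tensorLeft' C).obj (Coh.structureModule X))) ⟶
      (DCoh.restrictD U.ι).obj ((DCoh.inD X ω)⟦(i : ℤ)⟧)) := by
  haveI : IsNoetherian X := CurvLib.isNoetherian k (X := X)
  haveI : IsNoetherian (U : Scheme.{u}) := LocImmLib.isNoetherian_opens U
  haveI : EnoughInjectives X.Modules := ModSiteLib.sheafOfModules_enoughInjectives (R := X.ringCatSheaf)
  haveI : HasExt.{u} X.Modules := hasExt_of_enoughInjectives.{u} _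
  let N := (CurvLib.tensorLeft' C).obj (Coh.structureModule X)
  have hNc : Coh.IsCoh N := HilbPolyLib.isCoh_tensor hC (DevissLib.isCoh_structureModule X)
  let C₀ := (HomologicalComplex.single X.Modules (ComplexShape.up ℤ) 0).obj N
  have hI : 𝓘.supportSetᶜ = Set.range U.ι := (U.range_ι.trans hU).symm
  have hC₀ : DCoh.VanishesOutside C₀ 0 0 := fun i hi =>
    HomologicalComplex.isZero_single_obj_X _ _ _ _ (by omega)
  have hC₀c : ∀ q, Coh.IsCoh (C₀.X q) := fun q => by
    rcases eq_or_ne q 0 with rfl | hq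
    · exact QCohLib.isCoh_of_iso (HomologicalComplex.singleObjXSelf _ 0 N).symm hNc
    · exact DevissLib.isCoh_of_isZero (HomologicalComplex.isZero_single_obj_X _ _ _ _ hq)
  have hL : DCoh.IsCohD ((DCoh.inD X ω)⟦(i : ℤ)⟧) := Dual3Lib.isCohD_shift (HTorCohLib.isCohD_inD hω) _
  have hge : ∀ j : ℤ, j < -(i : ℤ) → IsZero (DCoh.HD ((DCoh.inD X ω)⟦(i : ℤ)⟧) j) := fun j hj => by
    haveI : DerivedCategory.IsGE ((DCoh.inD X ω)⟦(i : ℤ)⟧) (-(i : ℤ)) :=
      DerivedCategory.TStructure.t.isGE_shift (DCoh.inD X ω) 0 (i : ℤ) (-(i : ℤ)) (by omega)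
    exact DerivedCategory.isZero_of_isGE _ (-(i : ℤ)) j hj
  let s := (DerivedCategory.singleFunctorIsoCompQ X.Modules 0).app N
  refine subsingleton_of_forall_eq 0 fun α => ?_
  obtain ⟨a, φ, hφ⟩ := (Groth.Agent.S3664.result (U : Scheme.{u}) X U.ι 𝓘 hI C₀ 0 0 hC₀ hC₀c _ hL (-(i : ℤ)) hge).1
    ((DCoh.restrictD U.ι).map s.inv ≫ α)
  obtain ⟨b, hb, hz⟩ := exists_step (k := k) hC vC hlef h1 (n - i) (by omega) a
  obtain ⟨ea, hea⟩ := exists_twistIso hC hA vC (𝓘 ^ (a + 1))
  obtain ⟨eb, heb⟩ := exists_twistIso hC hA vC (𝓘 ^ (b + 1))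
  have hS := HilbPolyLib.shortExact_tensor hC (CurvLib.idealSeq_shortExact (𝓘 ^ (a + 1)))
  haveI : Mono ((CurvLib.tensorLeft' C).map (ClSub.idealModι (𝓘 ^ (a + 1)))) := hS.mono_f
  let ιab := CohExtLib.inclMul (CohExtLib.pow_le_pow (J := 𝓘) (Nat.add_le_add_right hb 1)) N
  have hcomm : ιab ≫ ea.hom = eb.hom ≫ (CurvLib.tensorLeft' C).map (LefProZeroLib.incl
      (CohExtLib.pow_le_pow (J := 𝓘) (Nat.add_le_add_right hb 1))) := by
    rw [← cancel_mono ((CurvLib.tensorLeft' C).map (ClSub.idealModι (𝓘 ^ (a + 1)))), Category.assoc, Category.assoc,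
      hea, ← Functor.map_comp, LefProZeroLib.incl_ι, heb]
    exact CohExtLib.inclMul_ι _ _
  let φ' : DCoh.inD X ((Dual3.idealMul (𝓘 ^ (a + 1))).obj N) ⟶ (DCoh.inD X ω)⟦(i : ℤ)⟧ :=
    (singleFunctor X.Modules 0).map (CohExtLib.inclMul (CohExtLib.pow_le_pow (J := 𝓘) (Nat.le_succ a)) N) ≫
      (CohDimFormalLib.deligneIso 𝓘 N a).inv ≫ φ
  have hij : (i : ℤ) + ((n - i : ℕ) : ℤ) = (n : ℤ) := by omega
  have hkill : (singleFunctor X.Modules 0).map ιab ≫ φ' = 0 := by
    refine (hbij _ (CohExtLib.isCoh_idealMul _ hNc).1 _ _ hij).1 ?_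
    rw [map_zero]
    refine LinearMap.ext fun x => ?_
    rw [FieldDualLib.pairing_natural, LinearMap.zero_apply]
    suffices hx : x ≫ (shiftFunctor (DCoh.D X) ((n - i : ℕ) : ℤ)).map ((singleFunctor X.Modules 0).map ιab) = 0 by
      rw [hx, map_zero]
    refine (FieldDualLib.homEquivHH (k := k) ((Dual3.idealMul (𝓘 ^ (a + 1))).obj N) (n - i)).injective ?_
    rw [FieldDualLib.homEquivHH_natural, map_zero]
    show CurvLib.hMap (k := k) ιab (n - i) _ = 0
    rw [show ιab = (eb.hom ≫ (CurvLib.tensorLeft' C).map (LefProZeroLib.incl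
      (CohExtLib.pow_le_pow (J := 𝓘) (Nat.add_le_add_right hb 1)))) ≫ ea.inv by rw [← hcomm, Category.assoc,
        Iso.hom_inv_id, Category.comp_id], CurvLib.hMap_comp, CurvLib.hMap_comp, hz, map_zero]
  have hab : a ≤ b + 1 := Nat.le_succ_of_le hb
  let τ := (NatTrans.mapHomologicalComplex (CohDimFormalLib.deligneIncl 𝓘 hab) (ComplexShape.up ℤ)).app C₀
  have hτ : τ ≫ Dual3.deligneι 𝓘 a C₀ = Dual3.deligneι 𝓘 (b + 1) C₀ :=
    HomologicalComplex.hom_ext _ _ fun q => CohExtLib.inclMul_ι (CohExtLib.pow_le_pow hab) _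
  have hτφ : DerivedCategory.Q.map τ ≫ φ = 0 := by
    rw [← (CohDimFormalLib.deligneIso 𝓘 N a).hom_inv_id_assoc φ, ← Category.assoc,
      CohDimFormalLib.deligneIso_natural, Category.assoc]
    have : CohExtLib.inclMul (CohExtLib.pow_le_pow (J := 𝓘) hab) N =
        ιab ≫ CohExtLib.inclMul (CohExtLib.pow_le_pow (J := 𝓘) (Nat.le_succ a)) N := by
      rw [← cancel_mono (Dual3.idealMulι (𝓘 ^ a) N), CohExtLib.inclMul_ι, Category.assoc, CohExtLib.inclMul_ι,
        CohExtLib.inclMul_ι]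
    rw [this, Functor.map_comp, Category.assoc, hkill, comp_zero]
  have h0 : (DCoh.restrictD U.ι).map (DerivedCategory.Q.map (Dual3.deligneι 𝓘 (b + 1) C₀)) ≫
      ((DCoh.restrictD U.ι).map s.inv ≫ α) = 0 := by
    rw [← hτ, Functor.map_comp, Functor.map_comp, Category.assoc, hφ, ← Functor.map_comp, hτφ, Functor.map_zero]
  haveI := isIso_restrict_deligneι (U := U) hU N (b + 1)
  rw [← cancel_epi ((DCoh.restrictD U.ι).map s.inv), comp_zero,
    ← cancel_epi ((DCoh.restrictD U.ι).map (DerivedCategory.Q.map (Dual3.deligneι 𝓘 (b + 1) C₀))), comp_zero]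
  exact h0

end CdLefLib
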