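import Groth.Agent.FieldDualLib.Basic
import Groth.Agent.NefH1Lib.GorDual
import Groth.Agent.DualCxLib.SchGor
import Groth.Agent.S1766
import Groth.Agent.S3637
import Groth.Agent.S0341
import Groth.Agent.S0342

/-!
# Serre duality with an invertible dualizing module on a regular proper variety
-/

set_option autoImplicit false
set_option linter.style.haveILetI false
set_option linter.unusedSectionVars false
set_option maxHeartbeats 1000000
set_option synthInstance.maxHeartbeats 200000
set_option backward.isDefEq.respectTransparency false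
set_option backward.isDefEq.respectTransparency.types false
universe u

open CategoryTheory CategoryTheory.Limits AlgebraicGeometry DerivedCategory
open Groth.Agent

attribute [local instance] HasDerivedCategory.standard

noncomputable section

namespace CdLefLib

variable {k : Type u} [Field k] {X : Scheme.{u}} [X.Over (Spec (CommRingCat.of k))]
  [IsProper (X ↘ Spec (CommRingCat.of k))] [IsIntegral X]

/-- Duality in every degree with an invertible dualizing module. -/
theorem exists_duality_invertible (hreg : ∀ x : X, IsRegularLocalRing (X.presheaf.stalk x))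
    (n : ℕ) (hdim : topologicalKrullDim X = n) :
    ∃ (ω : X.Modules) (t : (Dual3Lib.uO X ⟶ (DCoh.inD X ω)⟦(n : ℤ)⟧) →ₗ[k] k), PicF.IsInvertible ω ∧
      Coh.IsCoh ω ∧ ∀ G : X.Modules, Coh.IsQCoh G → ∀ (j m : ℤ) (h : j + m = (n : ℤ)),
        Function.Bijective (FieldDualLib.pairing t G j m h) := by
  let f := X ↘ Spec (CommRingCat.of k)
  haveI : IsLocallyNoetherian X := LocallyOfFiniteType.isLocallyNoetherian f
  haveI : CompactSpace X := QuasiCompact.compactSpace_of_compactSpace f
  haveI : QuasiSeparatedSpace X := quasiSeparatedSpace_of_quasiSeparated f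
  haveI : AlgebraicGeometry.IsNoetherian X := ⟨⟩
  haveI : EnoughInjectives X.Modules := IsGrothendieckAbelian.enoughInjectives.{u}
  haveI : HasExt.{u} X.Modules := hasExt_of_enoughInjectives.{u} X.Modules
  haveI : ∀ (U V : Scheme.{u}) (j : U ⟶ V) [IsOpenImmersion j],
      PreservesFiniteLimits (Scheme.Modules.restrictFunctor j) := fun U V j _ => inferInstance
  haveI : ∀ (B : CommRingCat.{u}), PreservesFiniteLimits (tilde.functor B) := fun B =>
    HensSchLib.tilde_preservesFiniteLimits B
  haveI : DCoh.HasRpush f := DCohRestrLib.hasRpush _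
  have hf : DCoh.RpushPreservesQCoh f := fun K hK => QRlimLib.isQCohD_rpush _ hK
  haveI := Groth.Agent.S1766.result X (Spec (CommRingCat.of k)) f hf
  let a := (DCoh.RpushQ f hf).rightAdjoint
  let adj : DCoh.RpushQ f hf ⊣ a := Adjunction.ofIsLeftAdjoint (DCoh.RpushQ f hf)
  let O : DCoh.DQCoh (Spec (CommRingCat.of k)) :=
    ⟨DCoh.inD _ (Coh.structureModule _), PerfBaseLib.isQCohD_inD _ QCohLib.isQCoh_unit⟩
  have hgor : ∀ x : X, LocCoh.IsGorensteinLocalRing (X.presheaf.stalk x) := fun x => by
    haveI := hreg x
    exact Groth.Agent.S0342.result (X.presheaf.stalk x)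
  have hCM : ∀ x : X, LocCoh.IsCohenMacaulayLocalRing (X.presheaf.stalk x) := fun x => by
    haveI := hgor x
    exact Groth.Agent.S0341.result _
  have heq : ∀ Z ∈ irreducibleComponents (X : Type u), topologicalKrullDim Z = (n : WithBot ℕ∞) := fun Z hZ => by
    rw [irreducibleComponents_eq_singleton, Set.mem_singleton_iff] at hZ
    subst hZ
    rw [IsHomeomorph.topologicalKrullDim_eq _ (Homeomorph.Set.univ X).isHomeomorph, hdim]
  obtain ⟨hdual, -, -⟩ := Dual3Lib.amplitude f hf a adj O (Iso.refl _) n hdim.le
  have hinv : Dual3.IsInvertibleD (a.obj O).obj :=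
    DualCxLib.isInvertibleD_of_gorenstein ⟨inferInstance, hgor⟩ hdual
  obtain ⟨-, -, hst⟩ := Groth.Agent.S3637.result k X f hCM n heq hf a adj O ⟨Iso.refl _⟩
  have hω : PicF.IsInvertible (DCoh.HD (a.obj O).obj (-(n : ℤ))) :=
    NefH1Lib.isInvertible_of_isInvertibleD hinv _ fun x => (hst x).1
  obtain ⟨hcoh, t, ht⟩ := FieldDualLib.exists_duality (k := k) hCM n heq hdim hf a adj O (Iso.refl _)
  exact ⟨_, t, hω, hcoh, ht⟩

end CdLefLib
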