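import Groth.Agent.CdLefLib.Twist
import Groth.Agent.CdLefLib.Invert
import Groth.Agent.ProjLefLib.Transfer
import Groth.Agent.HilbPolyLib.Twist

/-!
# From the Lefschetz condition to the vanishing of classes on the complement
-/

set_option autoImplicit false
set_option linter.style.haveILetI false
set_option linter.unusedSectionVars false
set_option maxHeartbeats 1000000
set_option synthInstance.maxHeartbeats 200000
set_option backward.isDefEq.respectTransparency false
set_option backward.isDefEq.respectTransparency.types false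

universe u

open CategoryTheory CategoryTheory.Limits AlgebraicGeometry DerivedCategory Abelian
open LefProZeroLib (tπ secHH secHH_comp secHH_bijective)

attribute [local instance] HasDerivedCategory.standard

noncomputable section

namespace CdLefLib

/-- In an inverse system of finite dimensional spaces, images from far away extend to compatible families. -/
theorem exists_family {k : Type u} [Field k] (M : ℕ → Type u) [∀ m, AddCommGroup (M m)] [∀ m, Module k (M m)]
    [∀ m, FiniteDimensional k (M m)] (t : ∀ {p q : ℕ}, p ≤ q → (M q →ₗ[k] M p))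
    (hcomp : ∀ {p q r : ℕ} (h : p ≤ q) (h' : q ≤ r) (y : M r), t h (t h' y) = t (h.trans h') y)
    (hid : ∀ {p : ℕ} (y : M p), t (le_refl p) y = y) (a : ℕ) :
    ∃ (b : ℕ) (h : a ≤ b), ∀ y : M b, ∃ z : ∀ m, M m, (∀ m, t (Nat.le_succ m) (z (m + 1)) = z m) ∧ z a = t h y := by
  let R : ∀ m : ℕ, ℕ → Submodule k (M m) := fun m d => LinearMap.range (t (Nat.le_add_right m d))
  have hR : ∀ m {d e : ℕ}, d ≤ e → R m e ≤ R m d := fun m d e h => by
    rintro _ ⟨y, rfl⟩
    exact ⟨t (Nat.add_le_add_left h m) y, hcomp _ _ y⟩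
  choose d hd using fun m => IsArtinian.monotone_stabilizes (R := k) (M := M m)
    ⟨fun e => OrderDual.toDual (R m e), fun e e' h => hR m h⟩
  have hstab : ∀ m {q : ℕ} (h : m ≤ q) (_ : m + d m ≤ q) (y : M q), t h y ∈ R m (d m) := fun m q h h' y => by
    obtain ⟨e, rfl⟩ := Nat.exists_eq_add_of_le h
    rw [show R m (d m) = R m e from OrderDual.toDual.injective (hd m e (by omega))]
    exact ⟨y, rfl⟩
  have hdeep : ∀ m (s : M m), s ∈ R m (d m) → ∀ q (h : m ≤ q), ∃ y, t h y = s := fun m s hs q h => by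
    obtain ⟨e, rfl⟩ := Nat.exists_eq_add_of_le h
    rcases le_total e (d m) with he | he
    · exact hR m he hs
    · rw [show R m (d m) = R m e from OrderDual.toDual.injective (hd m e he)] at hs
      exact hs
  have hsurj : ∀ m (s : M m), s ∈ R m (d m) → ∃ s', s' ∈ R (m + 1) (d (m + 1)) ∧ t (Nat.le_succ m) s' = s :=
    fun m s hs => by
      obtain ⟨y, hy⟩ := hdeep m s hs (m + 1 + d (m + 1)) (by omega)
      exact ⟨t (show m + 1 ≤ m + 1 + d (m + 1) by omega) y, hstab _ _ le_rfl y, by rw [hcomp]; exact hy⟩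
  choose f hf hf' using hsurj
  refine ⟨a + d a, Nat.le_add_right a _, fun y => ?_⟩
  let w : ∀ e, {s : M (a + e) // s ∈ R (a + e) (d (a + e))} := fun e =>
    Nat.rec (⟨t (le_refl a) (t (Nat.le_add_right a (d a)) y), by rw [hid]; exact ⟨y, rfl⟩⟩)
      (fun e' s => ⟨f (a + e') s.1 s.2, hf (a + e') s.1 s.2⟩) e
  have hw : ∀ e, t (Nat.le_succ (a + e)) (w (e + 1)).1 = (w e).1 := fun e => hf' (a + e) (w e).1 (w e).2
  have hw' : ∀ e e' (h : e ≤ e'), t (Nat.add_le_add_left h a) (w e').1 = (w e).1 := by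
    intro e e' h
    induction e', h using Nat.le_induction with
    | base => exact hid _
    | succ q hq ih =>
      exact (hcomp (Nat.add_le_add_left hq a) (Nat.le_succ (a + q)) _).symm.trans
        ((congrArg (t (Nat.add_le_add_left hq a)) (hw q)).trans ih)
  refine ⟨fun m => t (Nat.le_add_left m a) (w m).1, fun m => ?_, ?_⟩
  · show t (Nat.le_succ m) (t (Nat.le_add_left (m + 1) a) (w (m + 1)).1) = t (Nat.le_add_left m a) (w m).1
    rw [hcomp, ← hw m, hcomp]
    rfl
  · show t (Nat.le_add_left a a) (w a).1 = _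
    refine (hw' 0 a (Nat.zero_le a)).trans ?_
    exact hid _

variable {X : Scheme.{u}}

theorem isCoh_idealPow [IsLocallyNoetherian X] (J : X.IdealSheafData) : Coh.IsCoh (ClSub.idealMod J) := by
  obtain ⟨e, -⟩ := CohDimFormalLib.exists_idealModIso J
  exact QCohLib.isCoh_of_iso e (CohExtLib.isCoh_idealMul J (DevissLib.isCoh_structureModule X))

theorem secHH_zero {k : Type u} [Field k] [X.Over (Spec (CommRingCat.of k))] (M : X.Modules) :
    secHH (k := k) (0 : Coh.structureModule X ⟶ M) = 0 := by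
  rw [← zero_comp (X := Coh.structureModule X) (f := 𝟙 M), secHH_comp]
  have h : (0 : Coh.structureModule X ⟶ M) = 0 ≫ (0 : M ⟶ M) := zero_comp.symm
  rw [← secHH_comp, zero_comp, h, secHH_comp, EssZeroLib.hMap_zero]

/-- The Lefschetz condition on the whole scheme. -/
theorem homToFormalBijective_of_lefCond [IsLocallyNoetherian X] {𝓘 : X.IdealSheafData} (h : Lef.LefCond X 𝓘)
    (D : X.Modules) (hD : FlatMod.IsFinLocFree D) : Lef.HomToFormalBijective 𝓘 D := by
  let U : X.Opens := ⊤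
  have hU : (𝓘.support : Set X) ⊆ (U : Set X) := fun _ _ => trivial
  haveI : IsIso (ClSub.unitToPush U.ι) := ProjLefLib.isIso_unitToPush_ι U fun x hx => absurd trivial hx
  haveI : ∀ n, IsIso (ProjLefLib.nhdQuot U 𝓘 n) := ProjLefLib.isIso_nhdQuot U 𝓘 hU
  have h' := h U hU (D.restrict U.ι) (LeffEt.isFinLocFree_restrict U.ι hD)
  let adj := Scheme.Modules.restrictAdjunction U.ι
  let η := ClSub.unitToPush U.ι
  have key : ∀ (φ : D ⟶ Coh.structureModule X) (n : ℕ),
      adj.homEquiv _ _ ((adj.homEquiv _ _).symm (φ ≫ η) ≫ ClSub.toSubscheme ((𝓘.comap U.ι) ^ (n + 1))) =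
        (φ ≫ ClSub.toSubscheme (𝓘 ^ (n + 1))) ≫ ProjLefLib.nhdQuot U 𝓘 n := fun φ n => by
    rw [adj.homEquiv_naturality_right, Equiv.apply_symm_apply, Category.assoc, Category.assoc,
      ProjLefLib.toSub_nhdQuot]
  refine ⟨fun φ ψ hh => ?_, fun y hy => ?_⟩
  · refine (cancel_mono η).1 ((adj.homEquiv _ _).symm.injective (h'.1 _ _ fun n => ?_))
    exact (adj.homEquiv _ _).injective ((key φ n).trans (((hh n).symm ▸ (key ψ n).symm).symm.symm))
  · obtain ⟨Φ, hΦ⟩ := h'.2 (fun n => (adj.homEquiv _ _).symm (y n ≫ ProjLefLib.nhdQuot U 𝓘 n)) fun n => by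
      refine (adj.homEquiv _ _).injective ?_
      rw [adj.homEquiv_naturality_right, Equiv.apply_symm_apply, Equiv.apply_symm_apply, Category.assoc,
        ProjLefLib.nhdQuot_quotMap, ← Category.assoc, hy n]
    refine ⟨adj.homEquiv _ _ Φ ≫ inv η, fun n => ?_⟩
    rw [← cancel_mono (ProjLefLib.nhdQuot U 𝓘 n), ← key, Category.assoc, IsIso.inv_hom_id, Category.comp_id,
      Equiv.symm_apply_apply, hΦ n, Equiv.apply_symm_apply]

section Steps

variable {k : Type u} [Field k] [X.Over (Spec (CommRingCat.of k))] [IsProper (X ↘ Spec (CommRingCat.of k))]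
  {𝓘 : X.IdealSheafData} {C A : X.Modules} (hC : PicF.IsInvertible C) (hA : PicF.IsInvertible A)
  (vC : CohB1.tensorMod C A ≅ Coh.structureModule X) (hlef : Lef.HomToFormalBijective 𝓘 A)

include hC vC hlef in
/-- Twisted sections are determined by their reductions and every compatible family comes from one. -/
theorem sections_bijective :
    (∀ φ ψ : Coh.structureModule X ⟶ (CurvLib.tensorLeft' C).obj (Coh.structureModule X),
      (∀ n, φ ≫ tπ 𝓘 C n = ψ ≫ tπ 𝓘 C n) → φ = ψ) ∧
    ∀ y : ∀ n : ℕ, Coh.structureModule X ⟶ (CurvLib.tensorLeft' C).obj (ClSub.quotMod (𝓘 ^ (n + 1))),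
      (∀ n, y (n + 1) ≫ (CurvLib.tensorLeft' C).map (Lef.quotMap (Lef.pow_succ_le 𝓘 n)) = y n) →
      ∃ φ : Coh.structureModule X ⟶ (CurvLib.tensorLeft' C).obj (Coh.structureModule X),
        ∀ n, φ ≫ tπ 𝓘 C n = y n := by
  haveI : (CurvLib.tensorLeft' C).IsEquivalence := VBP1Lib.isEquivalence_tensor vC
  let T := CurvLib.tensorLeft' C
  let b := fun (N : X.Modules) (φ : Coh.structureModule X ⟶ T.obj N) => T.preimage (vC.hom ≫ φ)
  have hb : ∀ (N : X.Modules) (φ : Coh.structureModule X ⟶ T.obj N), T.map (b N φ) = vC.hom ≫ φ :=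
    fun N φ => T.map_preimage _
  refine ⟨fun φ ψ h => ?_, fun y hy => ?_⟩
  · have := hlef.1 (b _ φ) (b _ ψ) fun n => T.map_injective (by
      rw [T.map_comp, T.map_comp, hb, hb, Category.assoc, Category.assoc]
      exact congrArg (vC.hom ≫ ·) (h n))
    have h2 := congrArg T.map this
    rw [hb, hb] at h2
    exact (cancel_epi vC.hom).1 h2
  · obtain ⟨φ₀, hφ⟩ := hlef.2 (fun n => b _ (y n)) fun n => T.map_injective (by
      rw [T.map_comp, hb, hb, Category.assoc]
      exact congrArg (vC.hom ≫ ·) (hy n))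
    refine ⟨vC.inv ≫ T.map φ₀, fun n => ?_⟩
    show (vC.inv ≫ T.map φ₀) ≫ T.map _ = _
    rw [Category.assoc, ← T.map_comp, hφ, hb, Iso.inv_hom_id_assoc]

include hC vC hlef in
/-- The inclusions of powers are eventually zero on twisted cohomology in degree `0`, and in degree `1` when
`H¹(C) = 0`. -/
theorem exists_step (h1 : Subsingleton (Coh.HH X ((CurvLib.tensorLeft' C).obj (Coh.structureModule X)) 1))
    (c : ℕ) (hc : c ≤ 1) (a : ℕ) :
    ∃ (b : ℕ) (h : a ≤ b), ∀ x, CurvLib.hMap (k := k) ((CurvLib.tensorLeft' C).map (LefProZeroLib.incl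
      (CohExtLib.pow_le_pow (J := 𝓘) (Nat.add_le_add_right h 1)))) c x = 0 := by
  haveI : IsNoetherian X := CurvLib.isNoetherian k (X := X)
  obtain ⟨hinj, hex⟩ := sections_bijective hC vC hlef
  let T := CurvLib.tensorLeft' C
  have hS : ∀ m : ℕ, ((CurvLib.idealSeq (𝓘 ^ (m + 1))).map T).ShortExact := fun m =>
    HilbPolyLib.shortExact_tensor hC (CurvLib.idealSeq_shortExact _)
  have hinc : ∀ {p q : ℕ} (h : p ≤ q), LefProZeroLib.incl (CohExtLib.pow_le_pow (J := 𝓘) (Nat.add_le_add_right h 1)) ≫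
      ClSub.idealModι (𝓘 ^ (p + 1)) = ClSub.idealModι (𝓘 ^ (q + 1)) := fun h => LefProZeroLib.incl_ι _
  have hq : ∀ {p q : ℕ} (h : p ≤ q), ClSub.toSubscheme (𝓘 ^ (q + 1)) ≫
      Lef.quotMap (CohExtLib.pow_le_pow (J := 𝓘) (Nat.add_le_add_right h 1)) = ClSub.toSubscheme (𝓘 ^ (p + 1)) :=
    fun h => LefAlgzLib.toSubscheme_quotMap _
  have hfin : ∀ (N : X.Modules), Coh.IsCoh N → ∀ j, FiniteDimensional k (Coh.HH X (T.obj N) j) := fun N hN j =>
    CurvLib.finite_HH (k := k) (HilbPolyLib.isCoh_tensor hC hN) j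
  interval_cases c
  · -- degree zero: a decreasing sequence of subspaces with zero intersection
    haveI : FiniteDimensional k (Coh.HH X (T.obj (ClSub.idealMod (𝓘 ^ (a + 1)))) 0) :=
      hfin _ (isCoh_idealPow (𝓘 ^ (a + 1))) 0
    let R : ℕ → Submodule k (Coh.HH X (T.obj (ClSub.idealMod (𝓘 ^ (a + 1)))) 0) := fun e =>
      LinearMap.range (CurvLib.hMap (k := k) (T.map (LefProZeroLib.incl
        (CohExtLib.pow_le_pow (J := 𝓘) (Nat.add_le_add_right (Nat.le_add_right a e) 1)))) 0)
    have hR : ∀ {e e' : ℕ}, e ≤ e' → R e' ≤ R e := fun {e e'} h => by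
      rintro _ ⟨y, rfl⟩
      refine ⟨CurvLib.hMap (k := k) (T.map (LefProZeroLib.incl
        (CohExtLib.pow_le_pow (J := 𝓘) (Nat.add_le_add_right (Nat.add_le_add_left h a) 1)))) 0 y, ?_⟩
      rw [← CurvLib.hMap_comp, ← T.map_comp, LefProZeroLib.incl_comp]
    obtain ⟨m, hm⟩ := IsArtinian.monotone_stabilizes (R := k) (M := Coh.HH X (T.obj (ClSub.idealMod (𝓘 ^ (a + 1)))) 0)
      ⟨fun e => OrderDual.toDual (R e), fun e e' h => hR h⟩
    refine ⟨a + m, Nat.le_add_right a m, fun x => ?_⟩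
    let v := CurvLib.hMap (k := k) (T.map (LefProZeroLib.incl
      (CohExtLib.pow_le_pow (J := 𝓘) (Nat.add_le_add_right (Nat.le_add_right a m) 1)))) 0 x
    have hv : ∀ e, v ∈ R e := fun e => by
      rcases le_total e m with h | h
      · exact hR h ⟨x, rfl⟩
      · rw [← show R m = R e from OrderDual.toDual.injective (hm e h)]; exact ⟨x, rfl⟩
    refine (CurvLib.injective₀ (k := k) (hS a)) ?_
    rw [map_zero]
    obtain ⟨φ, hφ⟩ := (secHH_bijective (k := k) _).2 (CurvLib.hMap (k := k) (T.map (ClSub.idealModι (𝓘 ^ (a + 1)))) 0 v)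
    have hz : ∀ φ₁ : Coh.structureModule X ⟶ T.obj (Coh.structureModule X),
        secHH (k := k) φ₁ = CurvLib.hMap (k := k) (T.map (ClSub.idealModι (𝓘 ^ (a + 1)))) 0 v → φ₁ = 0 :=
      fun φ₁ h₁ => hinj φ₁ 0 fun e => by
        refine (secHH_bijective (k := k) _).1 ?_
        rw [zero_comp, secHH_comp, h₁]
        obtain ⟨w, hw⟩ := hv e
        have hι : ∀ w, CurvLib.hMap (k := k) (T.map (ClSub.idealModι (𝓘 ^ (a + 1)))) 0 (CurvLib.hMap (k := k)
            (T.map (LefProZeroLib.incl (CohExtLib.pow_le_pow (J := 𝓘)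
              (Nat.add_le_add_right (Nat.le_add_right a e) 1)))) 0 w) =
            CurvLib.hMap (k := k) (T.map (ClSub.idealModι (𝓘 ^ (a + e + 1)))) 0 w := fun w => by
          rw [← CurvLib.hMap_comp, ← T.map_comp, hinc (Nat.le_add_right a e)]
        have h0 : T.map (ClSub.idealModι (𝓘 ^ (a + e + 1))) ≫ tπ 𝓘 C e = 0 := by
          show _ ≫ T.map _ = _
          rw [← hq (Nat.le_add_left e a), ← T.map_comp, ← Category.assoc, ClSub.idealModι, kernel.condition, zero_comp,
            Functor.map_zero]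
        rw [← hw, hι, ← CurvLib.hMap_comp, h0, EssZeroLib.hMap_zero]
        exact (secHH_zero (k := k) _).symm
    show CurvLib.hMap (k := k) (T.map (ClSub.idealModι (𝓘 ^ (a + 1)))) 0 v = 0
    rw [← hφ, hz φ hφ]
    exact secHH_zero (k := k) _
  · -- degree one: classes come from the quotients, and far away quotient sections lift
    let Q : ℕ → Type u := fun m => Coh.HH X (T.obj (ClSub.quotMod (𝓘 ^ (m + 1)))) 0
    haveI : ∀ m, FiniteDimensional k (Q m) := fun m => hfin _ (CurvLib.isCoh_quotMod _) 0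
    let t : ∀ {p q : ℕ}, p ≤ q → (Q q →ₗ[k] Q p) := fun {p q} h =>
      CurvLib.hMap (k := k) (T.map (Lef.quotMap (CohExtLib.pow_le_pow (J := 𝓘) (Nat.add_le_add_right h 1)))) 0
    obtain ⟨b, hab, hb⟩ := exists_family (k := k) Q t
      (fun {p q r} h h' y => by
        show CurvLib.hMap (k := k) _ 0 (CurvLib.hMap (k := k) _ 0 y) = _
        rw [← CurvLib.hMap_comp, ← T.map_comp, LeffPicLib.quotMap_comp])
      (fun {p} y => by
        show CurvLib.hMap (k := k) _ 0 y = y
        haveI := CurvLib.epi_toSubscheme (𝓘 ^ (p + 1))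
        rw [show Lef.quotMap (CohExtLib.pow_le_pow (J := 𝓘) (Nat.add_le_add_right (le_refl p) 1)) = 𝟙 _ by
          rw [← cancel_epi (ClSub.toSubscheme (𝓘 ^ (p + 1))), hq (le_refl p), Category.comp_id],
          CategoryTheory.Functor.map_id, CurvLib.hMap_apply, CategoryTheory.Functor.map_id]
        exact Sheaf.H.map_id_apply _) a
    refine ⟨b, hab, fun x => ?_⟩
    obtain ⟨y, rfl⟩ : x ∈ LinearMap.range (CurvLib.hDel (k := k) (hS b) 0) :=
      (CurvLib.exact₁ (hS b) 0).ge (LinearMap.mem_ker.2 (h1.elim _ _))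
    let φs : (CurvLib.idealSeq (𝓘 ^ (b + 1))).map T ⟶ (CurvLib.idealSeq (𝓘 ^ (a + 1))).map T :=
      T.mapShortComplex.map (ShortComplex.homMk
        (LefProZeroLib.incl (CohExtLib.pow_le_pow (J := 𝓘) (Nat.add_le_add_right hab 1))) (𝟙 _)
        (Lef.quotMap (CohExtLib.pow_le_pow (J := 𝓘) (Nat.add_le_add_right hab 1)))
        ((hinc hab).trans (Category.comp_id _).symm) ((Category.id_comp _).trans (hq hab).symm))
    refine (EssZeroLib.hDel_natural (hS b) (hS a) φs 0 y).symm.trans ?_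
    obtain ⟨z, hz, hza⟩ := hb y
    choose σ hσ using fun m => (secHH_bijective (k := k) (T.obj (ClSub.quotMod (𝓘 ^ (m + 1))))).2 (z m)
    obtain ⟨φ, hφ⟩ := hex σ fun m => (secHH_bijective (k := k) _).1 (by
      rw [secHH_comp, hσ, hσ]; exact hz m)
    show CurvLib.hDel (k := k) (hS a) 0 (t hab y) = 0
    rw [← hza, ← hσ, ← hφ, secHH_comp]
    exact LinearMap.mem_ker.1 ((CurvLib.exact₃ (hS a) 0).le ⟨_, rfl⟩)

end Steps

end CdLefLib
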