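import Groth.Agent.CdLefLib.Points
import Groth.Agent.CdLefLib.Vanish
import Groth.Agent.S11377
import Groth.Agent.CubeConsLib.Hom
import Groth.Agent.FLILib.Invertible
import Groth.Agent.MiscFlat6.QARelAmple
import Groth.Agent.SerreVanLib.Main
import Groth.Agent.LeffPicLib.Nhd
import Groth.Prelude.Def_Lef

/-!
# Cohomological dimension of a complement and the Lefschetz condition
-/

set_option autoImplicit false
set_option linter.style.haveILetI false
set_option linter.unusedSectionVars false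
set_option maxHeartbeats 1000000
set_option synthInstance.maxHeartbeats 200000
set_option backward.isDefEq.respectTransparency false
set_option backward.isDefEq.respectTransparency.types false

universe u

open CategoryTheory CategoryTheory.Limits AlgebraicGeometry TopologicalSpace DerivedCategory Abelian
open Groth.Agent

attribute [local instance] HasDerivedCategory.standard

noncomputable section

namespace CdLefLib

variable {k : Type u} [Field k] {X : Scheme.{u}} [X.Over (Spec (CommRingCat.of k))]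
  [IsProper (X ↘ Spec (CommRingCat.of k))] [IsIntegral X]

include k

/-- A nonempty open of a scheme proper over a field has a closed point of the whole scheme. -/
theorem exists_closed_point {U : X.Opens} (h : (U : Set X).Nonempty) : ∃ x ∈ U, IsClosed ({x} : Set X) := by
  haveI : JacobsonSpace X := LocallyOfFiniteType.jacobsonSpace (X ↘ Spec (CommRingCat.of k))
  obtain ⟨x, hx, hxc⟩ := nonempty_inter_closedPoints h U.2.isLocallyClosed
  exact ⟨x, hx, hxc⟩

/-- The essentially zero systems from the bound on the cohomological dimension. -/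
theorem pz_of_cd (hreg : ∀ x : X, IsRegularLocalRing (X.presheaf.stalk x)) {n : ℕ}
    (hdim : topologicalKrullDim X = n) {𝓘 : X.IdealSheafData} {U : X.Opens}
    (hU : (U : Set X) = (𝓘.support : Set X)ᶜ) (hn : 2 ≤ n)
    (hcd : ∀ F : (U : Scheme.{u}).Modules, Coh.IsCoh F → ∀ i : ℕ, n ≤ i + 1 →
      Subsingleton (Coh.HH (U : Scheme.{u}) F i))
    {C : X.Modules} (hC : PicF.IsInvertible C) :
    LefProZeroLib.PZ k (CurvLib.tensorLeft' C) 2 (𝓘.support : Set X) := fun P hP => by
  haveI : IsNoetherian X := CurvLib.isNoetherian k (X := X)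
  obtain ⟨A, hA, ⟨vC⟩⟩ := LeffPicLib.exists_inverse hC
  obtain ⟨N0, hN0⟩ := CohExtLib.exists_pow_le (I := 𝓘) (J := P) hP.le
  let T := CurvLib.tensorLeft' C
  have hM : FlatMod.IsFinLocFree (T.obj (Coh.structureModule X)) := AmpleDevLib.isFinLocFree_of_isInvertible
    (HilbPolyLib.isInvertible_tensor hC CurvLib.isInvertible_structureModule)
  have hcd' : ∀ G : (U : Scheme.{u}).Modules, Coh.IsCoh G → ∀ i : ℕ, n - 2 < i →
      Subsingleton (Coh.HH (U : Scheme.{u}) G i) := fun G hG i hi => hcd G hG i (by omega)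
  have key : ∀ j : ℕ, ∃ (b : ℕ) (h : N0 + 1 ≤ b), j < 2 → ∀ x, CurvLib.hMap (k := k)
      (T.map (LefProZeroLib.incl (CohExtLib.pow_le_pow (J := 𝓘) h))) j x = 0 := fun j => by
    by_cases hj : j < 2
    · obtain ⟨b, h, hz⟩ := CohDimFormalLib.exists_zero (k := k) hreg n hdim 𝓘 U hU (n - 2) hcd' hM j (by omega) (N0 + 1)
      refine ⟨b, h, fun _ x => ?_⟩
      obtain ⟨ea, hea⟩ := exists_twistIso hC hA vC (𝓘 ^ (N0 + 1))
      obtain ⟨eb, heb⟩ := exists_twistIso hC hA vC (𝓘 ^ b)
      haveI : Mono (T.map (ClSub.idealModι (𝓘 ^ (N0 + 1)))) :=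
        (HilbPolyLib.shortExact_tensor hC (CurvLib.idealSeq_shortExact (𝓘 ^ (N0 + 1)))).mono_f
      have he : T.map (LefProZeroLib.incl (CohExtLib.pow_le_pow (J := 𝓘) h)) =
          eb.inv ≫ CohExtLib.inclMul (CohExtLib.pow_le_pow (J := 𝓘) h) (T.obj (Coh.structureModule X)) ≫ ea.hom := by
        rw [← cancel_mono (T.map (ClSub.idealModι (𝓘 ^ (N0 + 1)))), ← T.map_comp, LefProZeroLib.incl_ι,
          Category.assoc, Category.assoc, hea, CohExtLib.inclMul_ι, ← heb, Iso.inv_hom_id_assoc]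
      rw [he, CurvLib.hMap_comp, CurvLib.hMap_comp]
      exact (congrArg (CurvLib.hMap (k := k) ea.hom j) (hz _)).trans (map_zero _)
    · exact ⟨N0 + 1, le_rfl, fun h => absurd h hj⟩
  choose b hb hz using key
  let B := max (b 0) (b 1)
  have hPle : 𝓘 ^ (N0 + 1) ≤ P := le_trans (CohExtLib.pow_le_pow (Nat.le_succ N0)) hN0
  have hb0 := hb 0
  have hB : N0 + 1 ≤ B := le_trans hb0 (le_max_left _ _)
  refine ⟨𝓘 ^ B, (CohExtLib.pow_le_pow hB).trans hPle, ?_, fun j hj x => ?_⟩
  · obtain ⟨B', hB'⟩ : ∃ B', B = B' + 1 := ⟨B - 1, by omega⟩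
    rw [hB', Scheme.IdealSheafData.support_pow_succ]
  · have hjB : b j ≤ B := by
      interval_cases j
      · exact le_max_left _ _
      · exact le_max_right _ _
    exact LefProZeroLib.hMap_incl_eq_zero (CohExtLib.pow_le_pow (hb j)) (CohExtLib.pow_le_pow hjB) hPle j (hz j hj) x

/-- Small cohomological dimension of the complement gives the Lefschetz condition. -/
theorem lef_of_cd (hreg : ∀ x : X, IsRegularLocalRing (X.presheaf.stalk x))
    {A : X.Modules} (hA : CohB1.IsAmple A) {n : ℕ} (hdim : topologicalKrullDim X = n)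
    {𝓘 : X.IdealSheafData} {U : X.Opens} (hU : (U : Set X) = (𝓘.support : Set X)ᶜ)
    (hcd : ∀ F : (U : Scheme.{u}).Modules, Coh.IsCoh F → ∀ i : ℕ, n ≤ i + 1 →
      Subsingleton (Coh.HH (U : Scheme.{u}) F i)) : Lef.LefCond X 𝓘 := by
  haveI : IsNoetherian X := CurvLib.isNoetherian k (X := X)
  by_cases hne : (U : Set X).Nonempty
  · have hn : 2 ≤ n := by
      obtain ⟨x, hx, hxc⟩ := exists_closed_point (k := k) hne
      obtain ⟨d, -, hd⟩ := dim_closure_lt (k := k) U hcd hU x (Set.disjoint_left.2 fun y hy hy' => by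
        rw [hxc.closure_eq] at hy
        obtain rfl : y = x := hy
        exact hU.le hx hy')
      omega
    refine LefProZeroLib.lefCond_of_pz (k := k) hA (fun C hC => pz_of_cd hreg hdim hU hn hcd hC)
      fun V hV x hx => LefProZeroLib.le_depth_regular (k := k) hreg hdim x 2 hn ?_
    obtain ⟨d, hd, hlt⟩ := dim_closure_lt (k := k) U hcd hU x (Set.disjoint_left.2 fun y hy hy' =>
      hx ((specializes_iff_mem_closure.2 hy).mem_open V.2 (hV hy')))
    rw [hd]
    exact_mod_cast (show d < n - 2 + 1 by omega)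
  · have hs : (𝓘.support : Set X) = Set.univ :=
      Set.compl_empty_iff.1 (hU.symm.trans (Set.not_nonempty_iff_eq_empty.1 hne))
    refine LefProZeroLib.lefCond_of_pz (k := k) hA (fun C _ => ?_) fun V hV x hx => absurd (hV (hs.ge trivial)) hx
    rw [hs]
    exact LefProZeroLib.pz_univ _ _

/-- The Lefschetz condition forbids an empty closed set. -/
theorem support_nonempty_of_lef {𝓘 : X.IdealSheafData} (h : Lef.LefCond X 𝓘) : (𝓘.support : Set X).Nonempty := by
  haveI : IsLocallyNoetherian X := LocallyOfFiniteType.isLocallyNoetherian (X ↘ Spec (CommRingCat.of k))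
  by_contra hs
  have hO := homToFormalBijective_of_lefCond h (Coh.structureModule X)
    (AmpleDevLib.isFinLocFree_of_isInvertible CurvLib.isInvertible_structureModule)
  have h1 := hO.1 (𝟙 _) 0 fun m => by
    have hz : IsZero (ClSub.quotMod (𝓘 ^ (m + 1))) := DevissLib.isZero_of_support_empty (Set.eq_empty_of_forall_notMem
      fun x hx => hs ⟨x, by
        have := CurvLib.support_quotMod_subset (𝓘 ^ (m + 1)) hx
        rwa [Scheme.IdealSheafData.support_pow_succ] at this⟩)
    exact hz.eq_of_tgt _ _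
  haveI : Nontrivial Γ(X, ⊤) := inferInstance
  refine one_ne_zero (α := Γ(X, ⊤)) ?_
  exact congrArg (fun φ : Coh.structureModule X ⟶ Coh.structureModule X => φ.app ⊤ (1 : Γ(X, ⊤))) h1

/-- In dimension at most one the Lefschetz condition and meeting all divisors force everything. -/
theorem eq_empty_of_lef_meets (hreg : ∀ x : X, IsRegularLocalRing (X.presheaf.stalk x)) {n : ℕ}
    (hdim : topologicalKrullDim X = n) (hn : n ≤ 1) {𝓘 : X.IdealSheafData} {U : X.Opens}
    (hU : (U : Set X) = (𝓘.support : Set X)ᶜ) (hlef : Lef.LefCond X 𝓘)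
    (hmeets : ∀ D : X.IdealSheafData, BlowUp.IsEffCartierIdeal D → D ≠ ⊤ →
      ((D.support : Set X) ∩ (𝓘.support : Set X)).Nonempty) : (U : Set X) = ∅ := by
  by_contra hne
  haveI : IsLocallyNoetherian X := LocallyOfFiniteType.isLocallyNoetherian (X ↘ Spec (CommRingCat.of k))
  obtain ⟨x, hx, hxc⟩ := exists_closed_point (k := k) (Set.nonempty_iff_ne_empty.2 hne)
  let D : X.IdealSheafData := Scheme.IdealSheafData.vanishingIdeal (⟨{x}, hxc⟩ : Closeds X)
  have hDs : (D.support : Set X) = {x} := Scheme.IdealSheafData.coe_support_vanishingIdeal _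
  by_cases hgen : genericPoint X = x
  · -- everything is one point
    obtain ⟨y, hy⟩ := support_nonempty_of_lef (k := k) hlef
    have h1 : y ∈ closure ({x} : Set X) := hgen ▸ ((genericPoint_spec X).specializes trivial).mem_closure
    rw [hxc.closure_eq] at h1
    obtain rfl : y = x := h1
    exact hU.le hx hy
  · have hD := CurveResLib.isEffCartier_of_regular hreg (hdim.le.trans (by exact_mod_cast hn)) D (by
      rw [hDs]; exact hgen)
    obtain ⟨y, hy, hy'⟩ := hmeets D hD fun h => by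
      have : (D.support : Set X) = ∅ := by rw [h, Scheme.IdealSheafData.support_top]; rfl
      exact Set.singleton_ne_empty x (hDs.symm.trans this)
    rw [hDs] at hy
    obtain rfl : y = x := hy
    exact hU.le hx hy'

/-- Negative twists on the complement have no top two cohomology groups. -/
theorem exists_negative_vanishing (hreg : ∀ x : X, IsRegularLocalRing (X.presheaf.stalk x))
    {L L' : X.Modules} (hL : PicF.IsInvertible L) (hL' : PicF.IsInvertible L')
    (hAmple : CohB1.IsAmple L) (v : CohB1.tensorMod L' L ≅ Coh.structureModule X) (n : ℕ) (hn : 2 ≤ n)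
    (hdim : topologicalKrullDim X = n) {𝓘 : X.IdealSheafData} {U : X.Opens}
    (hU : (U : Set X) = (𝓘.support : Set X)ᶜ) (hlef : Lef.LefCond X 𝓘) :
    ∃ m₀ : ℕ, ∀ m : ℕ, m₀ ≤ m → ∀ i : ℕ, n - 2 < i → i ≤ n → Subsingleton (Coh.HH (U : Scheme.{u})
      (CohB1.tensorPow ((Scheme.Modules.pullback U.ι).obj L') m) i) := by
  haveI : IsNoetherian X := CurvLib.isNoetherian k (X := X)
  haveI : EnoughInjectives (U : Scheme.{u}).Modules :=
    ModSiteLib.sheafOfModules_enoughInjectives (R := (U : Scheme.{u}).ringCatSheaf)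
  haveI : HasExt.{u} (U : Scheme.{u}).Modules := hasExt_of_enoughInjectives.{u} _
  obtain ⟨ω, t, hω, hωc, hbij⟩ := exists_duality_invertible (k := k) hreg n hdim
  obtain ⟨m₀, hm₀⟩ := SerreVanLib.exists_vanishing (X ↘ Spec (CommRingCat.of k)) hL hAmple ω hωc
  refine ⟨m₀, fun m hm i hi hin => ?_⟩
  let C := CohB1.tensorMod ω (CohB1.tensorPow L m)
  have hC : PicF.IsInvertible C := HilbPolyLib.isInvertible_tensor hω (AmpleThLib.tensorPow_isInvertible hL m)
  obtain ⟨A, hA, ⟨vC⟩⟩ := LeffPicLib.exists_inverse hC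
  let N := (CurvLib.tensorLeft' C).obj (Coh.structureModule X)
  let e : N ≅ C := KFlatLib.tensSwap (Coh.structureModule X) C ≪≫ KFlatLib.tensUnitIso C
  have h1 : Subsingleton (Coh.HH X N 1) := SerreVanLib.subsingleton_HH_of_iso e 1 (hm₀ m hm 1 one_pos)
  haveI hsub := subsingleton_hom (k := k) n ω hωc t hbij hU hC hA vC
    (homToFormalBijective_of_lefCond hlef A (AmpleDevLib.isFinLocFree_of_isInvertible hA)) h1 i (by omega) hin
  let R := Scheme.Modules.restrictFunctor U.ι
  have hN : PicF.IsInvertible N := HilbPolyLib.isInvertible_tensor hC CurvLib.isInvertible_structureModule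
  have hN' : FlatMod.IsFinLocFree (R.obj N) :=
    LeffEt.isFinLocFree_restrict U.ι (AmpleDevLib.isFinLocFree_of_isInvertible hN)
  haveI : Subsingleton (DCoh.inD _ (R.obj N) ⟶ (DCoh.inD _ (R.obj ω))⟦(i : ℤ)⟧) := by
    let e₁ : (DCoh.restrictD U.ι).obj (DCoh.inD X N) ≅ DCoh.inD _ (R.obj N) :=
      (R.mapDerivedCategorySingleFunctor 0).app N
    let e₂ : (DCoh.restrictD U.ι).obj ((DCoh.inD X ω)⟦(i : ℤ)⟧) ≅ (DCoh.inD _ (R.obj ω))⟦(i : ℤ)⟧ :=
      ((DCoh.restrictD U.ι).commShiftIso (i : ℤ)).app (DCoh.inD X ω) ≪≫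
        (shiftFunctor _ (i : ℤ)).mapIso ((R.mapDerivedCategorySingleFunctor 0).app ω)
    exact (e₁.homCongr e₂).symm.subsingleton
  haveI : Subsingleton (Ext (R.obj N) (R.obj ω) i) :=
    (Ext.homEquiv (X := R.obj N) (Y := R.obj ω) (n := i)).subsingleton
  obtain ⟨eE⟩ := PnDualLib.nonempty_ext_homMod_add hN' i (R.obj ω)
  have hHH : Subsingleton (Coh.HH (U : Scheme.{u}) (CohCmpLib.homMod (R.obj N) (R.obj ω)) i) :=
    eE.symm.toEquiv.subsingleton
  -- identify the module
  let eN : R.obj N ≅ (Scheme.Modules.pullback U.ι).obj N := (Scheme.Modules.restrictFunctorIsoPullback U.ι).app N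
  let eω : R.obj ω ≅ (Scheme.Modules.pullback U.ι).obj ω := (Scheme.Modules.restrictFunctorIsoPullback U.ι).app ω
  have hNp := AmpleDevLib.isInvertible_pb U.ι hN
  have hRN : PicF.IsInvertible (R.obj N) := HilbPolyLib.isInvertible_of_iso eN.symm hNp
  have hRω : PicF.IsInvertible (R.obj ω) := HilbPolyLib.isInvertible_of_iso eω.symm (AmpleDevLib.isInvertible_pb U.ι hω)
  obtain ⟨B, hB, ⟨vB⟩⟩ := LeffPicLib.exists_inverse hRN
  have hM := AmpleThLib.tensorPow_isInvertible (AmpleDevLib.isInvertible_pb U.ι hL') m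
  suffices h : Nonempty (CohB1.tensorMod B (R.obj ω) ≅ CohB1.tensorPow ((Scheme.Modules.pullback U.ι).obj L') m) by
    obtain ⟨d⟩ := h
    exact SerreVanLib.subsingleton_HH_of_iso (FLI.homModIso vB (R.obj ω) ≪≫ d).symm i hHH
  refine (CubeConsLib.clA_eq_iff (HilbPolyLib.isInvertible_tensor hB hRω) hM).1 ?_
  have hB' : CubeConsLib.clA hB = -CubeConsLib.clA hRN := by
    rw [eq_neg_iff_add_eq_zero, add_comm, ← CubeConsLib.clA_tensor, ← CubeConsLib.clA_one, CubeConsLib.clA_eq_iff]
    exact ⟨vB⟩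
  have hL'' : CubeConsLib.clA hL' = -CubeConsLib.clA hL := by
    rw [eq_neg_iff_add_eq_zero, ← CubeConsLib.clA_tensor, ← CubeConsLib.clA_one, CubeConsLib.clA_eq_iff]
    exact ⟨v⟩
  have hcN : CubeConsLib.clA hN = CubeConsLib.clA hω + m • CubeConsLib.clA hL := by
    rw [← CubeConsLib.clA_pow hL m, ← CubeConsLib.clA_tensor]
    exact (CubeConsLib.clA_eq_iff _ _).2 ⟨e⟩
  have hcRN : CubeConsLib.clA hRN = CubeConsLib.pullA U.ι (CubeConsLib.clA hN) := by
    rw [CubeConsLib.pullA_clA]; exact (CubeConsLib.clA_eq_iff _ _).2 ⟨eN⟩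
  have hcRω : CubeConsLib.clA hRω = CubeConsLib.pullA U.ι (CubeConsLib.clA hω) := by
    rw [CubeConsLib.pullA_clA]; exact (CubeConsLib.clA_eq_iff _ _).2 ⟨eω⟩
  rw [CubeConsLib.clA_tensor hB hRω, CubeConsLib.clA_pow (AmpleDevLib.isInvertible_pb U.ι hL') m, hB', hcRN, hcRω, hcN,
    ← CubeConsLib.pullA_clA U.ι hL', hL'', map_add, map_nsmul, map_neg, smul_neg]
  abel

variable [IsAlgClosed k]

/-- The Lefschetz condition and meeting all divisors bound the cohomological dimension of the complement. -/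
theorem cd_of_lef_meets (hreg : ∀ x : X, IsRegularLocalRing (X.presheaf.stalk x))
    {A : X.Modules} (hA : CohB1.IsAmple A) {n : ℕ} (hdim : topologicalKrullDim X = n)
    {𝓘 : X.IdealSheafData} {U : X.Opens} (hU : (U : Set X) = (𝓘.support : Set X)ᶜ) (hlef : Lef.LefCond X 𝓘)
    (hmeets : ∀ D : X.IdealSheafData, BlowUp.IsEffCartierIdeal D → D ≠ ⊤ →
      ((D.support : Set X) ∩ (𝓘.support : Set X)).Nonempty)
    (F : (U : Scheme.{u}).Modules) (hF : Coh.IsCoh F) (i : ℕ) (hi : n ≤ i + 1) :
    Subsingleton (Coh.HH (U : Scheme.{u}) F i) := by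
  let f := U.ι ≫ (X ↘ Spec (CommRingCat.of k))
  letI : (U : Scheme.{u}).Over (Spec (CommRingCat.of k)) := ⟨f⟩
  haveI : IsNoetherian X := CurvLib.isNoetherian k (X := X)
  haveI : IsNoetherian (U : Scheme.{u}) := Groth.Agent.LocImmLib.isNoetherian_opens U
  rcases Set.eq_empty_or_nonempty (U : Set X) with he | hne
  · haveI : IsEmpty ((U : Scheme.{u}) : Type u) := Set.isEmpty_coe_sort.2 he
    exact subsingleton_HH_isEmpty (k := k) F i
  have hn : 2 ≤ n := by
    by_contra hn
    exact hne.ne_empty (eq_empty_of_lef_meets (k := k) hreg hdim (by omega) hU hlef hmeets)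
  have hdimU : topologicalKrullDim (U : Scheme.{u}) ≤ (n : WithBot ℕ∞) :=
    U.ι.isOpenEmbedding.isInducing.topologicalKrullDim_le.trans hdim.le
  have hbig : ∀ (G : (U : Scheme.{u}).Modules) (j : ℕ), n < j → Subsingleton (Coh.HH (U : Scheme.{u}) G j) :=
    fun G j hj => CohTopLib.subsingleton_H_of_dim_le n hdimU _ j hj
  haveI : Nonempty ((U : Scheme.{u}) : Type u) := hne.to_subtype
  haveI : IsIntegral (U : Scheme.{u}) := isIntegral_of_isOpenImmersion U.ι
  haveI : LocallyOfFiniteType f := inferInstance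
  haveI : QuasiCompact f := inferInstance
  haveI : IsSeparated f := inferInstance
  haveI : LocallyOfFiniteType ((U : Scheme.{u}) ↘ Spec (CommRingCat.of k)) := ‹LocallyOfFiniteType f›
  haveI : QuasiCompact ((U : Scheme.{u}) ↘ Spec (CommRingCat.of k)) := ‹QuasiCompact f›
  haveI : IsSeparated ((U : Scheme.{u}) ↘ Spec (CommRingCat.of k)) := ‹IsSeparated f›
  obtain ⟨A', hA', ⟨vA⟩⟩ := LeffPicLib.exists_inverse hA.1
  let v : CohB1.tensorMod A' A ≅ Coh.structureModule X := HilbPolyLib.swapIso A' A ≪≫ vA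
  have hregU : ∀ x : (U : Scheme.{u}), IsRegularLocalRing ((U : Scheme.{u}).presheaf.stalk x) := fun x =>
    haveI := hreg (U.ι x)
    IsRegularLocalRing.of_ringEquiv (U.stalkIso x).symm.commRingCatIsoToRingEquiv
  have hQA : Mor2.IsQuasiAffine U.ι := ⟨inferInstance, fun V hV => by
    haveI : IsAffine (V : Scheme.{u}) := hV
    haveI : IsNoetherian (U.ι ⁻¹ᵁ V : Scheme.{u}) := Groth.Agent.LocImmLib.isNoetherian_opens _
    exact Scheme.IsQuasiAffine.of_isImmersion (U.ι ∣_ V)⟩
  obtain ⟨vU⟩ := CohCmpLib.nonempty_pullback_inverse U.ι v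
  obtain ⟨m₀, hm₀⟩ := exists_negative_vanishing (k := k) hreg hA.1 hA' hA v n hn hdim hU hlef
  refine Groth.Agent.S11377.result k (U : Scheme.{u}) hregU _ _ (MiscFlat6.isAmple_pb_of_isQuasiAffine U.ι hQA hA) ⟨vU⟩
    (n - 2) ⟨m₀, fun m hm j hj => ?_⟩ F hF i (by omega)
  rcases le_or_gt j n with h | h
  · exact hm₀ m hm j hj h
  · exact hbig _ j h

end CdLefLib
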