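import Groth.Agent.LichtLib.Main
import Groth.Agent.LefProZeroLib.Main
import Groth.Agent.CurveResLib.Main
import Groth.Agent.CohTopLib.Vanishing
import Groth.Agent.DevissLib.Stalk
import Groth.Agent.CdLefLib.Engine
import Groth.Prelude.Def_BlowUp2

/-!
# Closed sets in an open of small cohomological dimension
-/

set_option autoImplicit false
set_option linter.style.haveILetI false
set_option linter.unusedSectionVars false
set_option maxHeartbeats 1000000
set_option backward.isDefEq.respectTransparency false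
set_option backward.isDefEq.respectTransparency.types false

universe u

open CategoryTheory CategoryTheory.Limits AlgebraicGeometry TopologicalSpace

noncomputable section

namespace CdLefLib

/-- All cohomology of an empty scheme vanishes. -/
theorem subsingleton_HH_isEmpty {k : Type u} [Field k] {W : Scheme.{u}} [W.Over (Spec (CommRingCat.of k))]
    [IsEmpty W] (M : W.Modules) (i : ℕ) : Subsingleton (Coh.HH W M i) := by
  have h : IsZero M := DevissLib.isZero_of_support_empty (Set.eq_empty_of_isEmpty _)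
  refine subsingleton_of_forall_eq 0 fun x => ?_
  have hid : CurvLib.hMap (k := k) (𝟙 M) i x = x := by
    rw [CurvLib.hMap_apply, CategoryTheory.Functor.map_id]
    exact CategoryTheory.Sheaf.H.map_id_apply _
  rw [← hid, h.eq_of_src (𝟙 M) 0, EssZeroLib.hMap_zero]

/-- An effective Cartier divisor other than zero passes through a point of codimension at most one. -/
theorem exists_small_point {X : Scheme.{u}} [IsLocallyNoetherian X] {D : X.IdealSheafData}
    (hD : BlowUp.IsEffCartierIdeal D) (hne : D ≠ ⊤) :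
    ∃ ξ : X, ξ ∈ (D.support : Set X) ∧ ringKrullDim (X.presheaf.stalk ξ) ≤ 1 := by
  obtain ⟨x, hx⟩ : (D.support : Set X).Nonempty :=
    Set.nonempty_iff_ne_empty.2 fun h => hne ((Scheme.IdealSheafData.support_eq_bot_iff _).1 (Closeds.ext h))
  obtain ⟨U, hxU, g, -, hI⟩ := hD x
  haveI : IsNoetherianRing Γ(X, U.1) := IsLocallyNoetherian.component_noetherian U
  have hin : ∀ y : PrimeSpectrum Γ(X, U.1), U.2.fromSpec y ∈ (D.support : Set X) ↔ D.ideal U ≤ y.asIdeal := fun y => by
    have hy : U.2.fromSpec y ∈ U.1 := U.2.range_fromSpec.le ⟨y, rfl⟩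
    refine (D.mem_support_iff_of_mem hy).trans ?_
    have h := congrArg (fun S : Set X => U.2.fromSpec y ∈ S) (U.2.fromSpec_image_zeroLocus (D.ideal U : Set Γ(X, U.1)))
    refine Iff.trans ?_ (U.2.fromSpec.isOpenEmbedding.injective.mem_set_image (s := PrimeSpectrum.zeroLocus (D.ideal U : Set Γ(X, U.1))))
    exact ⟨fun h1 => h ▸ (⟨h1, hy⟩ : U.2.fromSpec y ∈ X.zeroLocus (U := U.1) (D.ideal U) ∩ U.1), fun h1 => (h.mp h1).1⟩
  let p := U.2.primeIdealOf ⟨x, hxU⟩
  have hp : D.ideal U ≤ p.asIdeal := (hin p).1 (by rw [U.2.fromSpec_primeIdealOf]; exact hx)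
  haveI := p.2
  obtain ⟨q, hq, -⟩ := Ideal.exists_minimalPrimes_le hp
  haveI : q.IsPrime := hq.1.1
  let y : PrimeSpectrum Γ(X, U.1) := ⟨q, ‹_›⟩
  refine ⟨U.2.fromSpec y, (hin y).2 hq.1.2, ?_⟩
  have hy : U.2.fromSpec y ∈ U.1 := U.2.range_fromSpec.le ⟨y, rfl⟩
  letI := TopCat.Presheaf.algebra_section_stalk X.presheaf ⟨U.2.fromSpec y, hy⟩
  haveI : IsLocalization.AtPrime (X.presheaf.stalk (U.2.fromSpec y)) q := U.2.isLocalization_stalk' y hy
  rw [IsLocalization.AtPrime.ringKrullDim_eq_height q]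
  haveI : (D.ideal U).IsPrincipal := ⟨g, hI⟩
  exact_mod_cast Ideal.height_le_one_of_isPrincipal_of_mem_minimalPrimes (D.ideal U) q hq

variable {k : Type u} [Field k] {X : Scheme.{u}} [X.Over (Spec (CommRingCat.of k))]
  [IsProper (X ↘ Spec (CommRingCat.of k))] (U : X.Opens)

include k

/-- A closed irreducible set inside `U` is smaller than the cohomological dimension of `U`. -/
theorem dim_lt_of_cd {n : ℕ} (hcd : ∀ F : (U : Scheme.{u}).Modules, Coh.IsCoh F → ∀ i : ℕ, n ≤ i + 1 →
      Subsingleton (Coh.HH (U : Scheme.{u}) F i))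
    {T : Set X} (hT : IsClosed T) (hirr : IsIrreducible T) (hTU : T ⊆ (U : Set X)) {d : ℕ}
    (hd : topologicalKrullDim ↥T = (d : WithBot ℕ∞)) : d + 1 < n := by
  haveI : IsNoetherian X := CurvLib.isNoetherian k (X := X)
  haveI : IsNoetherian (U : Scheme.{u}) := Groth.Agent.LocImmLib.isNoetherian_opens U
  obtain ⟨Z, i, hi, hZ, hr⟩ := DevissLib.exists_integral_closed hT hirr
  let j := IsOpenImmersion.lift U.ι i (by rw [hr, Scheme.Opens.range_ι]; exact hTU)
  have hj : j ≫ U.ι = i := IsOpenImmersion.lift_fac _ _ _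
  haveI : IsClosedImmersion (j ≫ U.ι) := by rw [hj]; exact hi
  haveI : IsClosedImmersion j := IsClosedImmersion.of_comp j U.ι
  have hdim : topologicalKrullDim Z = (d : WithBot ℕ∞) :=
    ((i.isEmbedding.toHomeomorph.trans (Homeomorph.setCongr hr)).isHomeomorph.topologicalKrullDim_eq).trans hd
  let f := U.ι ≫ (X ↘ Spec (CommRingCat.of k))
  haveI : IsProper (j ≫ f) := by rw [← Category.assoc, hj]; infer_instance
  by_contra hlt
  obtain ⟨M, hM, hnt⟩ := LichtLib.exists_nontrivial_of_closed f j hdim inferInstance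
  exact not_subsingleton_iff_nontrivial.2 hnt (hcd M hM d (by omega))

/-- The dimension of the closure of a point is a number. -/
theorem exists_dim_closure (x : X) :
    ∃ d : ℕ, topologicalKrullDim ↥(closure ({x} : Set X)) = (d : WithBot ℕ∞) := by
  haveI : LocallyOfFiniteType (X ↘ Spec (CommRingCat.of k)) := inferInstance
  obtain ⟨s, hs, -⟩ := VarDimLib.closureDim_eq_trdeg k X x
  exact ⟨s, hs⟩

variable [IsIntegral X]

/-- Points of codimension at most `c` have closures meeting the complement of `U`. -/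
theorem dim_closure_lt {n : ℕ} (hcd : ∀ F : (U : Scheme.{u}).Modules, Coh.IsCoh F → ∀ i : ℕ, n ≤ i + 1 →
      Subsingleton (Coh.HH (U : Scheme.{u}) F i)) {𝓘 : X.IdealSheafData}
    (hU : (U : Set X) = (𝓘.support : Set X)ᶜ) (x : X)
    (h : Disjoint (closure ({x} : Set X)) (𝓘.support : Set X)) :
    ∃ d : ℕ, topologicalKrullDim ↥(closure ({x} : Set X)) = (d : WithBot ℕ∞) ∧ d + 1 < n := by
  obtain ⟨d, hd⟩ := exists_dim_closure (k := k) x
  exact ⟨d, hd, dim_lt_of_cd (k := k) U hcd isClosed_closure isIrreducible_singleton.closure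
    (fun y hy => hU.ge (Set.disjoint_left.1 h hy)) hd⟩

/-- The complement of small cohomological dimension forces the closed set to meet every divisor. -/
theorem meets_of_cd {n : ℕ} (hdim : topologicalKrullDim X = n)
    (hcd : ∀ F : (U : Scheme.{u}).Modules, Coh.IsCoh F → ∀ i : ℕ, n ≤ i + 1 →
      Subsingleton (Coh.HH (U : Scheme.{u}) F i)) {𝓘 : X.IdealSheafData}
    (hU : (U : Set X) = (𝓘.support : Set X)ᶜ) {D : X.IdealSheafData} (hD : BlowUp.IsEffCartierIdeal D)
    (hne : D ≠ ⊤) : ((D.support : Set X) ∩ (𝓘.support : Set X)).Nonempty := by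
  by_contra h
  haveI : IsLocallyNoetherian X := LocallyOfFiniteType.isLocallyNoetherian (X ↘ Spec (CommRingCat.of k))
  obtain ⟨ξ, hξ, hle⟩ := exists_small_point hD hne
  obtain ⟨d, hd, hlt⟩ := dim_closure_lt (k := k) U hcd hU ξ (Set.disjoint_left.2 fun y hy hy' =>
    h ⟨y, closure_minimal (Set.singleton_subset_iff.2 hξ) D.support.isClosed hy, hy'⟩)
  have h0 := IntMultRegLib.dim_eq (X ↘ Spec (CommRingCat.of k)) ξ
  rw [IntMultRegLib.fibreClosureDim_eq, hdim, hd] at h0
  have h1 : ((n : ℕ) : WithBot ℕ∞) ≤ ((d + 1 : ℕ) : WithBot ℕ∞) := by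
    rw [h0, Nat.cast_add, Nat.cast_one]
    exact add_le_add le_rfl hle
  have h2 : n ≤ d + 1 := by exact_mod_cast h1
  omega

end CdLefLib
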