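import Groth.Agent.CohDimFormalLib.Main
import Groth.Agent.ProjFormLib.Proj
import Groth.Agent.CycKSuppLib.Killed
import Groth.Agent.VBP1Lib.Tensor
import Groth.Agent.HilbPolyLib.Twist
import Groth.Agent.CurvLib.Divisor
import Groth.Agent.AmpleDevLib.Pull
import Groth.Agent.LefProZeroLib.Lef

/-!
# Twisted ideal sheaves: `C ⊗ J = J · C`
-/

set_option autoImplicit false
set_option linter.style.haveILetI false
set_option linter.unusedSectionVars false
set_option maxHeartbeats 1000000
set_option backward.isDefEq.respectTransparency false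
set_option backward.isDefEq.respectTransparency.types false

universe u

open CategoryTheory CategoryTheory.Limits AlgebraicGeometry

noncomputable section

namespace CdLefLib

variable {X : Scheme.{u}}

theorem killed_of_iso {J : X.IdealSheafData} {M N : X.Modules} (e : M ≅ N) (h : ClSub.KilledByIdeal J M) :
    ClSub.KilledByIdeal J N := fun U a ha m => by
  have h1 : e.hom.app U.1 (e.inv.app U.1 m) = m :=
    congrArg (fun φ : N ⟶ N => φ.app U.1 m) e.inv_hom_id
  rw [← h1]
  refine (QCohLib.app_smul e.hom U.1 a _).symm.trans ?_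
  exact (congrArg (e.hom.app U.1) (h U a ha _)).trans (map_zero _)

/-- Twisting preserves being killed by an ideal, for pushed forward modules. -/
theorem killed_tensor_push {C : X.Modules} (hC : PicF.IsInvertible C) (J : X.IdealSheafData)
    (P : J.subscheme.Modules) :
    ClSub.KilledByIdeal J ((CurvLib.tensorLeft' C).obj ((Scheme.Modules.pushforward J.subschemeι).obj P)) := by
  let e := @asIso _ _ _ _ (ProjFormLib.projApp J.subschemeι C P)
    (ProjFormLib.isIso_projApp J.subschemeι (AmpleDevLib.isFinLocFree_of_isInvertible hC) P)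
  refine killed_of_iso e.symm ?_
  have := CycKSuppLib.killed_push J.subschemeι
    (KFlatLib.tens ((Scheme.Modules.pullback J.subschemeι).obj C) P)
  rwa [Scheme.IdealSheafData.ker_subschemeι] at this

/-- The twisted ideal sheaf is the ideal times the twisting module. -/
theorem exists_twistIso {C A : X.Modules} (hC : PicF.IsInvertible C) (hA : PicF.IsInvertible A)
    (vC : CohB1.tensorMod C A ≅ Coh.structureModule X) (J : X.IdealSheafData) :
    ∃ e : (Dual3.idealMul J).obj ((CurvLib.tensorLeft' C).obj (Coh.structureModule X)) ≅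
        (CurvLib.tensorLeft' C).obj (ClSub.idealMod J),
      e.hom ≫ (CurvLib.tensorLeft' C).map (ClSub.idealModι J) = Dual3.idealMulι J _ := by
  let T := CurvLib.tensorLeft' C
  let T' := CurvLib.tensorLeft' A
  let N := T.obj (Coh.structureModule X)
  have hS := HilbPolyLib.shortExact_tensor hC (CurvLib.idealSeq_shortExact J)
  haveI : Mono (T.map (ClSub.idealModι J)) := hS.mono_f
  have w : Dual3.idealMulι J N ≫ T.map (ClSub.toSubscheme J) = 0 :=
    CohExtLib.comp_eq_zero (killed_tensor_push hC J _) _
  have w' : T.map (ClSub.idealModι J) ≫ FormalCohLib.quotKπ J N = 0 := by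
    haveI : T'.IsEquivalence := VBP1Lib.isEquivalence_tensor (HilbPolyLib.swapIso A C ≪≫ vC)
    let η : 𝟭 X.Modules ≅ T ⋙ T' := (VBP1Lib.inverseEquiv vC).unitIso
    refine T'.map_injective ?_
    rw [T'.map_comp, T'.map_zero, ← cancel_epi (η.hom.app (ClSub.idealMod J)), comp_zero, ← Category.assoc]
    erw [← η.hom.naturality (ClSub.idealModι J)]
    obtain ⟨d, hd⟩ := CohDimFormalLib.exists_idealModIso J
    rw [← cancel_epi d.hom, comp_zero, Functor.id_map, Category.assoc, ← Category.assoc, hd]
    exact CohExtLib.comp_eq_zero (killed_tensor_push hA J _) _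
  refine ⟨⟨hS.fIsKernel.lift (KernelFork.ofι _ w), kernel.lift _ _ w', ?_, ?_⟩,
    hS.fIsKernel.fac _ WalkingParallelPair.zero⟩
  · rw [← cancel_mono (Dual3.idealMulι J N), Category.assoc, Category.id_comp]
    exact (congrArg (_ ≫ ·) (kernel.lift_ι _ _ w')).trans (hS.fIsKernel.fac _ WalkingParallelPair.zero)
  · rw [← cancel_mono (T.map (ClSub.idealModι J)), Category.assoc, Category.id_comp]
    exact (congrArg (_ ≫ ·) (hS.fIsKernel.fac (KernelFork.ofι _ w) WalkingParallelPair.zero)).trans
      (kernel.lift_ι _ _ w')

end CdLefLib
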